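import Cfsg.Agent.H425.KFix_m3
import Cfsg.Agent.H744.BFTwE
import Cfsg.Agent.H933.SubTwist
import Cfsg.Agent.S2130
import Cfsg.Agent.FastGrp
import Cfsg.Agent.Prune
set_option linter.all false
prune_inst 0x7f00000000000000000000000000000000000000000000000000000000000000000000000000000000000000000000000000000000000000000000000000000000000000000000000000000000000000003fffffffffffffffffffffffffffbeffbdffffffff
open scoped Cfsg.Agent.FastGrp

/-!
# The outer automorphism group of `²E₆(q)` modulo the diagonal part (for S4185)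
-/

set_option autoImplicit false
set_option linter.unusedSectionVars false

namespace Cfsg.Agent.H493.NCRow

open Subgroup Cfsg

section Abs

theorem conj_comm' {Y : Type*} [Group Y] (α : MulAut Y) (h : Y) : α * MulAut.conj h = MulAut.conj (α h) * α := by
  ext y
  change α (h * y * h⁻¹) = α h * α y * (α h)⁻¹
  rw [map_mul, map_mul, map_inv]

/-- a homomorphism from `Out` from a relation -/
theorem exists_outHom {Y Γ : Type*} [Group Y] [Finite Y] [Group Γ] {Rel : MulAut Y → Γ → Prop} (hone : Rel 1 1)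
    (hmul : ∀ β β' t t', Rel β t → Rel β' t' → Rel (β * β') (t * t'))
    (huniq : ∀ β t t', Rel β t → Rel β t' → t = t') (hconj : ∀ x t, Rel (MulAut.conj x) t → t = 1)
    (hex : ∀ α, ∃ g t, Rel (MulAut.conj g * α) t) :
    ∃ f : Out Y →* Γ, ∀ β t, Rel β t → f (QuotientGroup.mk' (Inn Y) β) = t := by
  have hpow : ∀ β t, Rel β t → ∀ n : ℕ, Rel (β ^ n) (t ^ n) := by
    intro β t h n
    induction n with
    | zero => rw [pow_zero, pow_zero]; exact hone
    | succ n ih => rw [pow_succ, pow_succ]; exact hmul _ _ _ _ ih h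
  have hfin : Finite (MulAut Y) := inferInstance
  have hinv : ∀ β t, Rel β t → Rel β⁻¹ t⁻¹ := by
    intro β t h
    have h1 := hpow β t h (orderOf β)
    rw [pow_orderOf_eq_one] at h1
    have h2 : t ^ orderOf β = 1 := huniq _ _ _ h1 hone
    have h3 := hpow β t h (orderOf β - 1)
    have hpos : 0 < orderOf β := orderOf_pos β
    have h4 : β ^ (orderOf β - 1) = β⁻¹ := by
      rw [eq_inv_iff_mul_eq_one, ← pow_succ, Nat.sub_add_cancel hpos, pow_orderOf_eq_one]
    have h5 : t ^ (orderOf β - 1) = t⁻¹ := by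
      rw [eq_inv_iff_mul_eq_one, ← pow_succ, Nat.sub_add_cancel hpos, h2]
    rwa [h4, h5] at h3
  have huniq' : ∀ α x y t t', Rel (MulAut.conj x * α) t → Rel (MulAut.conj y * α) t' → t = t' := by
    intro α x y t t' h h'
    have h1 := hmul _ _ _ _ h (hinv _ _ h')
    have h2 : MulAut.conj x * α * (MulAut.conj y * α)⁻¹ = MulAut.conj (x * y⁻¹) := by
      rw [mul_inv_rev, map_mul, map_inv]; group
    rw [h2] at h1
    exact mul_inv_eq_one.1 (hconj _ _ h1)
  choose g τ hg using hex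
  have hF : ∀ α β, τ (α * β) = τ α * τ β := by
    intro α β
    refine huniq' (α * β) _ (g α * α (g β)) _ _ (hg (α * β)) ?_
    have h1 := hmul _ _ _ _ (hg α) (hg β)
    have h2 : MulAut.conj (g α) * α * (MulAut.conj (g β) * β) = MulAut.conj (g α * α (g β)) * (α * β) := by
      rw [map_mul]
      calc MulAut.conj (g α) * α * (MulAut.conj (g β) * β) = MulAut.conj (g α) * (α * MulAut.conj (g β)) * β := by group
        _ = MulAut.conj (g α) * (MulAut.conj (α (g β)) * α) * β := by rw [conj_comm']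
        _ = _ := by group
    rwa [h2] at h1
  let F : MulAut Y →* Γ := MonoidHom.mk' τ hF
  have hker : Inn Y ≤ F.ker := by
    rintro _ ⟨x, rfl⟩
    rw [MonoidHom.mem_ker]
    have h1 := hg (MulAut.conj x)
    rw [← map_mul] at h1
    exact hconj _ _ h1
  refine ⟨QuotientGroup.lift (Inn Y) F hker, fun β t h => ?_⟩
  change F β = t
  refine huniq' β (g β) 1 _ _ (hg β) ?_
  rw [map_one, one_mul]
  exact h

end Abs

open CoxeterSystem Cfsg.Agent.ChevalleyStructure.CoxeterGeom Cfsg.Agent.Tits.Roots Cfsg.Agent.Tits.Core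
  Cfsg.Agent.Tits.Exchange Cfsg.Agent.Nodes.Reps Cfsg.Agent.Nodes.BNOf Cfsg.Agent.Nodes.StabComb
  Cfsg.Agent.Nodes.Bruhat Cfsg.Agent.Nodes.OppDec Cfsg.Agent.Nodes.RGDTwGen Cfsg.Agent.Nodes.RGDChev
  Cfsg.Agent.Nodes.RGDFold Cfsg.Agent.Nodes.RGDFoldSL
open Cfsg.Agent.KFacts.RgdOpp Cfsg.Agent.KFacts.RgdAut Cfsg.Agent.KFacts.RgdDiag Cfsg.Agent.KFacts.RgdRigid
  Cfsg.Agent.KFacts.RgdField Cfsg.Agent.KFacts.RgdTau Cfsg.Agent.KFacts.RgdNodes
open Cfsg.Lie Cfsg.Agent.ChevalleyStructure Cfsg.Agent.ChevalleyStructure.Elts Cfsg.Agent.ChevStructure.FieldMap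
open Cfsg.Agent.ChevalleyStructure.SL2Hom (up lo)
open Cfsg.Agent.KFacts.TwESix.NodeCoord Cfsg.Agent.KFacts.TwESix.Out Cfsg.Agent.KFacts.TwESix.OutTwo
open Cfsg.Agent.Nodes.RGDTwE6 Cfsg.Agent.Nodes.RGDTwNode.E6
open Cfsg.Agent.ChevalleyStructure.TwE6Basic (hE6 single_mem pair_mem twisted_le_iff exists_frob twisted_le_fix)
open Cfsg.Agent.H166.OutNodes Cfsg.Agent.H166.OutRGD Cfsg.Agent.H69.OutCount
open Cfsg.Agent.CpAut.RgdTwE6 (st rs st_up ntau_st ntau_of_ftau tau_phi coe_up ftau_pow)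

universe u

theorem exists_hom_TwE6 {K : Type u} [Field K] [Fintype K] {q : ℕ} (hq : IsPrimePow q) (hK : Fintype.card K = q ^ 2) :
    ∃ f : Out ↥(twistedE6 K q) →* (K ≃+* K), Function.Surjective f := by
  obtain ⟨φ, hφ, hqq⟩ := exists_frob hq hK
  obtain ⟨p, hp⟩ := CharP.exists K
  have hpp : Fact p.Prime := ⟨CharP.char_is_prime K p⟩
  have hW : Finite CoxeterMatrix.F₄.Group :=
    Cfsg.Agent.Nodes.RGDFold.finite_W (hp := Cfsg.Agent.Nodes.RGDTwE6.hp) CoxeterMatrix.F₄.toCoxeterSystem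
      Cfsg.Agent.Nodes.RGDTwE6.isCartan Cfsg.Agent.Nodes.RGDTwE6.foldData
  let cs : CoxeterSystem CoxeterMatrix.F₄ CoxeterMatrix.F₄.Group := CoxeterMatrix.F₄.toCoxeterSystem
  have R := Cfsg.Agent.Nodes.RGDTwE6.rgd cs hφ hqq p
  have hG1 := G1_top cs hφ hqq
  have hfin : Finite ↥(twistedE6 K q) := inferInstance
  obtain ⟨f, hf⟩ := exists_outHom (Y := ↥(twistedE6 K q)) (Γ := K ≃+* K) (Rel := fun β τ => FTau hφ hqq β τ)
    (FTau.one hφ hqq) (fun _ _ _ _ h h' => h.mul hφ hqq h') (fun _ _ _ h h' => h.unique hφ hqq h')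
    (fun x t h => h.unique hφ hqq (ftau_conj hφ hqq cs p (Cfsg.Agent.H69.OutCount.mem_T_of_diag R hG1 h.diag)))
    (fun α => by
      obtain ⟨g, τ, χ, hM, hok, -, S⟩ := Cfsg.Agent.H744.BFTwE.form hφ hqq cs p hq hK α
      exact ⟨g, τ, S⟩)
  refine ⟨f, fun σ => ⟨QuotientGroup.mk' _ (st q σ), hf _ _ ?_⟩⟩
  have S := ntau_st hφ hqq σ cs p
  exact ⟨S.diag, fun i t ht => congrArg Subtype.val (S.char i t ht)⟩

/-- **The outer automorphism group of `²E₆(q)`**: a normal subgroup of order `gcd(3, q+1)` with cyclic quotient. -/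
theorem exists_N_TwE6 {K : Type u} [Field K] [Fintype K] {q : ℕ} (hq : IsPrimePow q) (hK : Fintype.card K = q ^ 2) :
    ∃ N : Subgroup (Out ↥(twistedE6 K q)), ∃ _ : N.Normal, Nat.card N = Nat.gcd 3 (q + 1) ∧
      IsCyclic (Out ↥(twistedE6 K q) ⧸ N) := by
  obtain ⟨f, hf⟩ := exists_hom_TwE6 hq hK
  obtain ⟨p, k, hp, hk, hqk⟩ := (isPrimePow_nat_iff q).1 hq
  have hfp : Fact p.Prime := ⟨hp⟩
  subst hqk
  have hK' : Fintype.card K = p ^ (2 * k) := by rw [hK, ← pow_mul, mul_comm]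
  have hch : CharP K p := charP_of_card_eq_prime_pow hK'
  have hcard := Cfsg.Agent.S2130.result (K := K) p k hK' hk
  have hcyc : IsCyclic (K ≃+* K) := Cfsg.Agent.H933.SubTwist.isCyclic_ringAut (by omega) hK'
  have hΓ : Nat.card (K ≃+* K) = 2 * k := Cfsg.Agent.Lib.FieldAutCard.card_ringAut (by omega) hK'
  have e := QuotientGroup.quotientKerEquivOfSurjective f hf
  refine ⟨f.ker, inferInstance, ?_, isCyclic_of_surjective e.symm.toMonoidHom e.symm.surjective⟩
  have h1 : Nat.card f.ker * Nat.card (Out ↥(twistedE6 K (p ^ k)) ⧸ f.ker) = Nat.card (Out ↥(twistedE6 K (p ^ k))) :=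
    Subgroup.card_mul_index _
  rw [Nat.card_congr e.toEquiv, hΓ] at h1
  have h2 : Nat.card (Out ↥(twistedE6 K (p ^ k))) = 2 * Nat.gcd 3 (p ^ k + 1) * k := hcard
  rw [h2] at h1
  have h3 : Nat.card f.ker * (2 * k) = Nat.gcd 3 (p ^ k + 1) * (2 * k) := by rw [h1]; ring
  exact Nat.eq_of_mul_eq_mul_right (by omega) h3

end Cfsg.Agent.H493.NCRow
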